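import Mathlib
import Cfsg.Prelude.Def_Involutions
import Cfsg.Prelude.Def_Classical
import Cfsg.Prelude.Def_Sz
import Cfsg.Agent.S0214
import Cfsg.Agent.BenderType.Classify
import Cfsg.Agent.LieClassical.FieldTransfer
import Cfsg.Agent.H511.SelfNormSimple
import Cfsg.Agent.H511.SL2Even
import Cfsg.Agent.FastGrp
import Cfsg.Agent.Prune
set_option linter.all false
prune_inst 0x7f00000000000000000000000000000000000000000000000000000000000000000000000000000000000000000000000000000000000000000000000000000000000000000000000000000000000000003fffffffffffffffffffffffffffbeffbdffffffff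
open scoped Cfsg.Agent.FastGrp

/-!
# Simple groups in which every non-abelian subgroup is self-normalizing
-/

set_option autoImplicit false
set_option linter.style.haveILetI false
set_option linter.unusedSectionVars false
set_option linter.unusedSimpArgs false

open scoped Pointwise

namespace Cfsg.Agent.H511

open Subgroup

universe u

/-- A `p`-element commuting with a Sylow subgroup lies in it. -/
theorem mem_sylow_of_commute {G : Type*} [Group G] {p : ℕ} [Fact p.Prime] (S : Sylow p G) {y : G}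
    {j : ℕ} (hj : y ^ p ^ j = 1) (hc : ∀ s ∈ (S : Subgroup G), s * y = y * s) :
    y ∈ (S : Subgroup G) := by
  have hpz : IsPGroup p (Subgroup.zpowers y) := by
    rintro ⟨_, ⟨n, rfl⟩⟩
    refine ⟨j, Subtype.ext ?_⟩
    change (y ^ n) ^ p ^ j = 1
    rw [← zpow_natCast, ← zpow_mul, mul_comm, zpow_mul, zpow_natCast, hj, one_zpow]
  have hle : Subgroup.zpowers y ≤ Subgroup.normalizer ((S : Subgroup G) : Set G) := by
    rw [Subgroup.zpowers_le, Subgroup.mem_normalizer_iff]
    intro s
    constructor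
    · intro hs
      rw [← hc s hs]
      simpa using hs
    · intro hs
      have h1 := hc _ hs
      have h2 : y * s * y⁻¹ = s := by
        have h3 : y * (y * s * y⁻¹) = y * s := by rw [← h1]; group
        exact mul_left_cancel h3
      rwa [h2] at hs
  have hsup : IsPGroup p (Subgroup.zpowers y ⊔ (S : Subgroup G) : Subgroup G) :=
    hpz.to_sup_of_normal_right' S.2 hle
  have h9 := S.3 hsup le_sup_right
  rw [← h9]
  exact Subgroup.mem_sup_left (Subgroup.mem_zpowers y)

section

variable {G : Type u} [Group G] [Finite G] [IsSimpleGroup G]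

theorem not_solvable_of_simple (hna : ∃ a b : G, a * b ≠ b * a) : ¬ Group.IsSolvable G := by
  intro hc
  obtain ⟨a, b, hab⟩ := hna
  exact hab (IsSimpleGroup.comm_iff_isSolvable.2 hc a b)

theorem center_eq_bot_of_simple (hna : ∃ a b : G, a * b ≠ b * a) : Subgroup.center G = ⊥ := by
  rcases IsSimpleGroup.eq_bot_or_eq_top_of_normal (Subgroup.center G) inferInstance with h | h
  · exact h
  · exfalso
    obtain ⟨a, b, hab⟩ := hna
    have : b ∈ Subgroup.center G := by rw [h]; exact Subgroup.mem_top _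
    exact hab (Subgroup.mem_center_iff.1 this a)

theorem SelfNorm.sub (h : SelfNorm G) (H : Subgroup G) :
    Group.IsSolvable H ∨ IsSimpleGroup H :=
  SelfNorm.solvable_or_simple (Nat.card H) H rfl (h.subgroup H)

theorem SelfNorm.sylow_comm (h : SelfNorm G) (hna : ∃ a b : G, a * b ≠ b * a) {p : ℕ}
    [Fact p.Prime] (P : Sylow p G) : IsMulCommutative (P : Subgroup G) := by
  apply comm_sylow h (not_solvable_of_simple hna)
  · intro N hN hNt
    rcases IsSimpleGroup.eq_bot_or_eq_top_of_normal N hN with h1 | h1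
    · rw [h1]; exact bot_le
    · exact absurd h1 hNt
  · intro H _
    exact h.sub H

/-- A simple group with cyclic Sylow 2-subgroup is abelian. -/
theorem not_cyclic_sylow_two (hna : ∃ a b : G, a * b ≠ b * a) (S : Sylow 2 G)
    (hS : (S : Subgroup G) ≠ ⊥) : ¬ IsCyclic (S : Subgroup G) := by
  haveI : Fact (Nat.Prime 2) := ⟨Nat.prime_two⟩
  intro hc
  have h2 : 2 ∣ Nat.card G := by
    have h3 : Nat.card (S : Subgroup G) ∣ Nat.card G := Subgroup.card_subgroup_dvd_card _
    obtain ⟨n, hn⟩ := IsPGroup.iff_card.1 S.2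
    have hn0 : n ≠ 0 := by
      rintro rfl
      rw [pow_zero] at hn
      exact hS (Subgroup.card_eq_one.1 hn)
    rw [hn] at h3
    exact (dvd_pow_self 2 hn0).trans h3
  have hmf : (Nat.card G).minFac = 2 := (Nat.minFac_eq_two_iff _).2 h2
  have hNC : Subgroup.normalizer ((S : Subgroup G) : Set G) ≤
      Subgroup.centralizer ((S : Subgroup G) : Set G) :=
    IsCyclic.normalizer_le_centralizer hmf hc
  have hcompl := MonoidHom.ker_transferSylow_isComplement' S hNC
  rcases IsSimpleGroup.eq_bot_or_eq_top_of_normal (MonoidHom.transferSylow S hNC).ker inferInstance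
    with h1 | h1
  · have h5 := hcompl.card_mul_card
    rw [h1, Subgroup.card_bot, one_mul] at h5
    have h6 := Subgroup.eq_top_of_card_eq _ h5
    obtain ⟨a, b, hab⟩ := hna
    apply hab
    letI := hc.commGroup
    have ha : a ∈ (S : Subgroup G) := by rw [h6]; exact Subgroup.mem_top _
    have hb : b ∈ (S : Subgroup G) := by rw [h6]; exact Subgroup.mem_top _
    exact congrArg Subtype.val (mul_comm (⟨a, ha⟩ : (S : Subgroup G)) ⟨b, hb⟩)
  · apply hS
    have := hcompl.disjoint
    rw [h1] at this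
    simpa using this

/-- Centralizers of involutions are abelian. -/
theorem SelfNorm.comm_centralizer (h : SelfNorm G) (hna : ∃ a b : G, a * b ≠ b * a) {t : G}
    (ht : orderOf t = 2) : IsMulCommutative (Subgroup.centralizer ({t} : Set G)) := by
  haveI : Fact (Nat.Prime 2) := ⟨Nat.prime_two⟩
  by_contra hCc
  set C := Subgroup.centralizer ({t} : Set G) with hC
  have hmemC : ∀ g : G, g ∈ C ↔ Commute g t := by
    intro g
    rw [hC, Subgroup.mem_centralizer_singleton_iff]
    rfl
  have htC : t ∈ C := (hmemC t).2 (Commute.refl t)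
  have ht1 : t ≠ 1 := by
    rintro rfl
    rw [orderOf_one] at ht
    omega
  have ht2 : t ^ 2 = 1 := orderOf_dvd_iff_pow_eq_one.1 ht.dvd
  have hCt : C ≠ ⊤ := by
    intro hc
    have h1 : t ∈ Subgroup.center G := by
      rw [Subgroup.mem_center_iff]
      intro g
      exact (hmemC g).1 (by rw [hc]; exact Subgroup.mem_top _)
    rw [center_eq_bot_of_simple hna, Subgroup.mem_bot] at h1
    exact ht1 h1
  have htc : (⟨t, htC⟩ : C) ∈ Subgroup.center C := by
    rw [Subgroup.mem_center_iff]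
    intro g
    exact Subtype.ext ((hmemC g).1 g.2)
  have hCs : Group.IsSolvable C := by
    rcases h.sub C with h1 | h1
    · exact h1
    · exfalso
      rcases h1.eq_bot_or_eq_top_of_normal (Subgroup.center C) inferInstance with h2 | h2
      · rw [h2, Subgroup.mem_bot] at htc
        exact ht1 (congrArg Subtype.val htc)
      · apply hCc
        refine ⟨⟨fun a b => ?_⟩⟩
        have : b ∈ Subgroup.center C := by rw [h2]; exact Subgroup.mem_top _
        exact Subgroup.mem_center_iff.1 this a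
  have hCnn : ¬ Group.IsNilpotent C := by
    intro hn
    have hc' : ¬ IsMulCommutative (⊤ : Subgroup C) := by
      intro h1
      rw [comm_top] at h1
      exact hCc ⟨⟨h1⟩⟩
    obtain ⟨p, hp, hpC⟩ := isPGroup_of_nilpotent (h.subgroup C) hn hc'
    haveI : Fact p.Prime := ⟨hp⟩
    obtain ⟨P, hP⟩ := hpC.exists_le_sylow
    exact hCc (comm_mono hP (h.sylow_comm hna P))
  obtain ⟨x, A, p, hp, hAn, hAc, ⟨k, hk⟩, hpA, hcomp, hxp, hfix⟩ := (h.subgroup C).struct hCnn
  have hgen : ∀ g : C, ∃ (i : ℤ), ∃ a ∈ A, g = x ^ i * a := by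
    intro g
    obtain ⟨⟨⟨_, ⟨i, rfl⟩⟩, ⟨a, ha⟩⟩, h1⟩ := hcomp.surjective g
    exact ⟨i, a, ha, h1.symm⟩
  obtain ⟨i, a, ha, hta⟩ := hgen ⟨t, htC⟩
  have htc' := Subgroup.mem_center_iff.1 htc
  -- a commutes with x
  have hxa : x * a = a * x := by
    have h1 := htc' x
    have h2 : Commute x (x ^ i) := (Commute.refl x).zpow_right i
    rw [hta] at h1
    have h3 : x ^ i * (x * a) = x ^ i * (a * x) := by
      calc x ^ i * (x * a) = (x ^ i * x) * a := by group
        _ = (x * x ^ i) * a := by rw [h2.eq]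
        _ = x * (x ^ i * a) := by group
        _ = (x ^ i * a) * x := h1
        _ = _ := by group
    exact mul_left_cancel h3
  have ha1 : a = 1 := by
    by_contra ha1
    exact hfix a ha ha1 (mul_inv_eq_iff_eq_mul.2 hxa)
  rw [ha1, mul_one] at hta
  -- so p = 2
  have hti : orderOf (x ^ i) = 2 := by
    rw [← hta, ← Subgroup.orderOf_coe]
    exact ht
  have hp2 : p = 2 := by
    have h1 : orderOf (x ^ i) ∣ orderOf x := orderOf_dvd_of_mem_zpowers ⟨i, rfl⟩
    rw [hti, hk] at h1
    exact ((Nat.prime_dvd_prime_iff_eq Nat.prime_two hp).1 (Nat.prime_two.dvd_of_dvd_pow h1)).symm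
  subst hp2
  -- the Sylow 2-subgroup of G containing x
  have hxp2 : IsPGroup 2 (Subgroup.zpowers (x : G)) := by
    apply IsPGroup.of_card (n := k)
    rw [Nat.card_zpowers, Subgroup.orderOf_coe, hk]
  obtain ⟨S, hS⟩ := hxp2.exists_le_sylow
  have hxS : (x : G) ∈ (S : Subgroup G) := hS (Subgroup.mem_zpowers _)
  have hSc := comm_iff.1 (h.sylow_comm hna S)
  have htx : t = (x : G) ^ i := congrArg Subtype.val hta
  have hSC : (S : Subgroup G) ≤ C := by
    intro s hs
    rw [hmemC, htx]
    exact (show Commute s (x : G) from hSc s hs x hxS).zpow_right i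
  have hSle : (S : Subgroup G) ≤ Subgroup.zpowers (x : G) := by
    have h1 : IsPGroup 2 ((S : Subgroup G).subgroupOf C) :=
      S.2.comap_of_injective C.subtype C.subtype_injective
    have hxSC : Subgroup.zpowers x ≤ (S : Subgroup G).subgroupOf C := by
      rw [Subgroup.zpowers_le, Subgroup.mem_subgroupOf]
      exact hxS
    have h2 : Nat.card ((S : Subgroup G).subgroupOf C) ∣ Nat.card (Subgroup.zpowers x) := by
      have h3 : Nat.card ((S : Subgroup G).subgroupOf C) ∣
          Nat.card (Subgroup.zpowers x) * Nat.card A := by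
        rw [hcomp.card_mul_card]
        exact Subgroup.card_subgroup_dvd_card _
      obtain ⟨n, hn⟩ := IsPGroup.iff_card.1 h1
      have h4 : (Nat.card ((S : Subgroup G).subgroupOf C)).Coprime (Nat.card A) := by
        rw [hn]
        exact Nat.Coprime.pow_left n ((Nat.Prime.coprime_iff_not_dvd Nat.prime_two).2 hpA)
      exact h4.dvd_of_dvd_mul_right h3
    have h3 : Subgroup.zpowers x = (S : Subgroup G).subgroupOf C :=
      Subgroup.eq_of_le_of_card_ge hxSC (Nat.le_of_dvd Nat.card_pos h2)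
    intro s hs
    have h4 : (⟨s, hSC hs⟩ : C) ∈ Subgroup.zpowers x := by
      rw [h3, Subgroup.mem_subgroupOf]
      exact hs
    obtain ⟨n, hn⟩ := h4
    exact ⟨n, congrArg Subtype.val hn⟩
  have hSb : (S : Subgroup G) ≠ ⊥ := by
    intro hc
    have h1 : t ∈ (S : Subgroup G) := by
      rw [htx]
      exact (S : Subgroup G).zpow_mem hxS i
    rw [hc, Subgroup.mem_bot] at h1
    exact ht1 h1
  apply not_cyclic_sylow_two hna S hSb
  have hSeq : (S : Subgroup G) = Subgroup.zpowers (x : G) := le_antisymm hSle hS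
  rw [hSeq]
  infer_instance

/-- The Sylow 2-normalizer is strongly embedded. -/
theorem SelfNorm.stronglyEmbedded (h : SelfNorm G) (hna : ∃ a b : G, a * b ≠ b * a) (S : Sylow 2 G)
    (hSb : (S : Subgroup G) ≠ ⊥) :
    Cfsg.IsStronglyEmbedded (Subgroup.normalizer ((S : Subgroup G) : Set G)) := by
  haveI : Fact (Nat.Prime 2) := ⟨Nat.prime_two⟩
  have hSc := comm_iff.1 (h.sylow_comm hna S)
  set H := Subgroup.normalizer ((S : Subgroup G) : Set G) with hH
  have hSH : (S : Subgroup G) ≤ H := Subgroup.le_normalizer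
  have hHt : H ≠ ⊤ := by
    intro hc
    rw [hH, Subgroup.normalizer_eq_top_iff] at hc
    rcases IsSimpleGroup.eq_bot_or_eq_top_of_normal (S : Subgroup G) hc with h1 | h1
    · exact hSb h1
    · obtain ⟨a, b, hab⟩ := hna
      apply hab
      apply hSc
      · rw [h1]; exact Subgroup.mem_top _
      · rw [h1]; exact Subgroup.mem_top _
  have hPb : (S.subtype hSH : Subgroup H) ≠ ⊥ := by
    intro hc
    obtain ⟨t, ht, ht1, -, -⟩ := exists_involution_of_isPGroup S.2 hSb
    have h1 : (⟨t, hSH ht⟩ : H) ∈ (S.subtype hSH : Subgroup H) := Subgroup.mem_subgroupOf.2 ht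
    rw [hc, Subgroup.mem_bot] at h1
    exact ht1 (congrArg Subtype.val h1)
  rw [Cfsg.Agent.S0214.result H hHt (S.subtype hSH) hPb]
  intro X hX hXb g hg
  -- an involution of X
  have hX' : X.map H.subtype ≤ (S : Subgroup G) := by
    rintro _ ⟨y, hy, rfl⟩
    exact Subgroup.mem_subgroupOf.1 (hX hy)
  have hXb' : X.map H.subtype ≠ ⊥ := by
    intro hc
    apply hXb
    rw [Subgroup.eq_bot_iff_forall]
    intro y hy
    have h1 : (y : G) ∈ X.map H.subtype := ⟨y, hy, rfl⟩
    rw [hc, Subgroup.mem_bot] at h1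
    exact Subtype.ext h1
  obtain ⟨t, htX, ht1, ht2, -⟩ := exists_involution_of_isPGroup (S.2.to_le hX') hXb'
  have hto : orderOf t = 2 := orderOf_eq_prime ht2 ht1
  have hgt : g * t * g⁻¹ ∈ (S : Subgroup G) := by
    apply hX'
    exact (Subgroup.mem_normalizer_iff.1 hg t).1 htX
  have hCc := comm_iff.1 (h.comm_centralizer hna hto)
  have htS := hX' htX
  -- g S g⁻¹ centralizes g t g⁻¹; as does S
  have hgt1 : g * t * g⁻¹ ≠ 1 := by
    intro hc
    apply ht1
    rwa [mul_inv_eq_one, mul_eq_left] at hc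
  have hgt2 : (g * t * g⁻¹) ^ 2 = 1 := by
    rw [conj_pow, ht2]
    group
  have hgto : orderOf (g * t * g⁻¹) = 2 := orderOf_eq_prime hgt2 hgt1
  have hCg := comm_iff.1 (h.comm_centralizer hna hgto)
  rw [hH, Subgroup.mem_normalizer_iff_map_conj_eq]
  apply Subgroup.eq_of_le_of_card_ge
  · rintro _ ⟨s, hs, rfl⟩
    change g * s * g⁻¹ ∈ (S : Subgroup G)
    obtain ⟨j, hj⟩ := S.2 ⟨s, hs⟩
    have hj' : s ^ 2 ^ j = 1 := congrArg Subtype.val hj
    apply mem_sylow_of_commute S (j := j)
    · rw [conj_pow, hj']; group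
    · intro s' hs'
      apply hCg
      · rw [Subgroup.mem_centralizer_singleton_iff]
        exact hSc s' hs' _ hgt
      · rw [Subgroup.mem_centralizer_singleton_iff]
        calc g * s * g⁻¹ * (g * t * g⁻¹) = g * (s * t) * g⁻¹ := by group
          _ = g * (t * s) * g⁻¹ := by rw [hSc s hs t htS]
          _ = _ := by group
  · exact (Subgroup.card_map_of_injective (K := (S : Subgroup G)) (f := (MulAut.conj g).toMonoidHom)
          (MulAut.conj g).injective).ge

end

/-! ### `2^n - 1` is prime -/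

section

variable {F : Type*} [Field F] [Finite F]

local notation "SL2" => Matrix.SpecialLinearGroup (Fin 2) F

open SL2Even

/-- the upper triangular matrices whose diagonal entry lies in a given subgroup -/
def borelSub (Z : Subgroup Fˣ) : Subgroup SL2 where
  carrier := {g | g.1 1 0 = 0 ∧ ∃ u ∈ Z, (u : F) = g.1 0 0}
  one_mem' := by
    refine ⟨one_ent.2.2.1, 1, Z.one_mem, ?_⟩
    rw [one_ent.1]
    rfl
  mul_mem' := by
    rintro g h ⟨hg, u, hu, hgu⟩ ⟨hh, v, hv, hhv⟩
    refine ⟨?_, u * v, Z.mul_mem hu hv, ?_⟩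
    · rw [mul_ent, hg, hh]; ring
    · rw [mul_ent, hh, ← hgu, ← hhv, Units.val_mul]; ring
  inv_mem' := by
    rintro g ⟨hg, u, hu, hgu⟩
    refine ⟨?_, u⁻¹, Z.inv_mem hu, ?_⟩
    · rw [(inv_ent g).2.2.1, hg, neg_zero]
    · rw [(inv_ent g).1]
      have hd := det_ent g
      rw [hg, mul_zero, sub_zero, ← hgu] at hd
      exact Units.inv_eq_of_mul_eq_one_right hd

theorem mem_borelSub {Z : Subgroup Fˣ} {g : SL2} :
    g ∈ borelSub Z ↔ g.1 1 0 = 0 ∧ ∃ u ∈ Z, (u : F) = g.1 0 0 := Iff.rfl

/-- a diagonal matrix -/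
def dg (u : Fˣ) : SL2 := ⟨!![(u : F), 0; 0, ((u⁻¹ : Fˣ) : F)], by simp⟩

theorem dg_ent (u : Fˣ) : (dg u : SL2).1 0 0 = u ∧ (dg u : SL2).1 0 1 = 0 ∧
    (dg u : SL2).1 1 0 = 0 ∧ (dg u : SL2).1 1 1 = ((u⁻¹ : Fˣ) : F) := by
  simp [dg]

theorem prime_of_selfNorm [CharP F 2] (h4 : 4 ≤ Nat.card F) (h : SelfNorm SL2) :
    (Nat.card F - 1).Prime := by
  have hcu : Nat.card Fˣ = Nat.card F - 1 := by
    have := Nat.card_units F
    exact this
  have h1 : Nat.card Fˣ ≠ 1 := by omega
  obtain ⟨r, hr, hrd⟩ := Nat.exists_prime_and_dvd h1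
  haveI : Fact r.Prime := ⟨hr⟩
  obtain ⟨ζ, hζ⟩ := exists_prime_orderOf_dvd_card' r hrd
  let K : Subgroup SL2 := borelSub (Subgroup.zpowers ζ)
  have hζ1 : ζ ≠ 1 := by
    rintro rfl
    rw [orderOf_one] at hζ
    exact hr.one_lt.ne hζ
  have hdgK : dg ζ ∈ K := mem_borelSub.2 ⟨(dg_ent ζ).2.2.1, ζ, Subgroup.mem_zpowers ζ, (dg_ent ζ).1.symm⟩
  have hupK : up 1 ∈ K := mem_borelSub.2 ⟨(up_ent 1).2.2.1, 1, one_mem _, (up_ent (1 : F)).1.symm⟩
  have hKc : ¬ IsMulCommutative K := by
    intro hc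
    have h2 : Commute (dg ζ) (up 1) := comm_iff.1 hc _ hdgK _ hupK
    obtain ⟨b, hb⟩ := commute_up_iff.1 h2
    have h3 := congrArg (fun g : SL2 => g.1 0 0) hb
    simp only [(dg_ent ζ).1, (up_ent b).1] at h3
    exact hζ1 (Units.ext h3)
  have hKn := h K hKc
  have hall : ∀ v : Fˣ, v ∈ Subgroup.zpowers ζ := by
    intro v
    have hle : ∀ (v : Fˣ) (g : SL2), g ∈ K → dg v * g * (dg v)⁻¹ ∈ K := by
      rintro v g ⟨hg, u, hu, hgu⟩
      refine mem_borelSub.2 ⟨?_, u, hu, ?_⟩
      · simp only [mul_ent, (inv_ent (dg v)).1, (inv_ent (dg v)).2.1, (inv_ent (dg v)).2.2.1,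
          (inv_ent (dg v)).2.2.2, (dg_ent v).1, (dg_ent v).2.1, (dg_ent v).2.2.1, (dg_ent v).2.2.2,
          hg]
        ring
      · simp only [mul_ent, (inv_ent (dg v)).1, (inv_ent (dg v)).2.1, (inv_ent (dg v)).2.2.1,
          (inv_ent (dg v)).2.2.2, (dg_ent v).1, (dg_ent v).2.1, (dg_ent v).2.2.1, (dg_ent v).2.2.2,
          hg]
        rw [← hgu]
        have : (v : F) * ((v⁻¹ : Fˣ) : F) = 1 := by rw [← Units.val_mul, mul_inv_cancel, Units.val_one]
        linear_combination (-(u : F)) * this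
    have hvN : dg v ∈ Subgroup.normalizer (K : Set SL2) := by
      rw [Subgroup.mem_normalizer_iff]
      intro g
      refine ⟨hle v g, ?_⟩
      intro hg
      have h5 := hle v⁻¹ _ hg
      have h6 : dg v⁻¹ = (dg v : SL2)⁻¹ := by
        rw [ext_iff', (inv_ent _).1, (inv_ent _).2.1, (inv_ent _).2.2.1, (inv_ent _).2.2.2]
        simp [dg]
      rw [h6] at h5
      have h7 : (dg v)⁻¹ * (dg v * g * (dg v)⁻¹) * ((dg v : SL2)⁻¹)⁻¹ = g := by group
      rwa [h7] at h5
    rw [hKn] at hvN
    obtain ⟨-, u, hu, huv⟩ := mem_borelSub.1 hvN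
    rw [(dg_ent v).1] at huv
    rwa [Units.ext huv] at hu
  have h2 : Nat.card Fˣ = r := by
    have h3 : Subgroup.zpowers ζ = ⊤ := by
      rw [Subgroup.eq_top_iff']
      exact hall
    rw [← hζ, ← Nat.card_zpowers, h3, Subgroup.card_top]
  rw [← hcu, h2]
  exact hr

end

/-- The list of Bender's theorem with abelian Sylow 2-subgroups: `PSL(2, 2^n)`. -/
theorem psl_of_concl {L : Type*} [Group L] [Finite L] (h : BenderType.Classify.Concl L)
    (S : Sylow 2 L) (hc : IsMulCommutative (S : Subgroup L)) :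
    ∃ (F : Type) (_ : Field F) (_ : Fintype F), (∃ n : ℕ, 2 ≤ n ∧ Fintype.card F = 2 ^ n) ∧
      Nonempty (L ≃* Matrix.ProjectiveSpecialLinearGroup (Fin 2) F) := by
  rcases h with h | ⟨F, i1, i2, m, hm, hF, ⟨e⟩⟩ |
    ⟨F, i1, i2, n, hn, hF, ⟨e⟩⟩
  · exact h
  · exact absurd hc (BenderType.Classify.ty_sz_of_equiv hm hF e S).not_comm
  · exact absurd hc (BenderType.Classify.ty_psu_of_equiv (by omega) hF e S).not_comm

theorem charP_two {F : Type*} [Field F] [Fintype F] {n : ℕ} (hF : Fintype.card F = 2 ^ n) :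
    CharP F 2 := by
  obtain ⟨p, hp⟩ := CharP.exists F
  have hp' : p.Prime := (CharP.char_is_prime_or_zero F p).resolve_right
    (fun h0 => by subst h0; exact CharP.char_ne_zero_of_finite F 0 rfl)
  obtain ⟨k, hk1, hk2⟩ := FiniteField.card F p
  have : p = 2 := by
    have h1 : p ∣ 2 ^ n := by
      rw [← hF, hk2]
      exact dvd_pow_self p k.pos.ne'
    exact (Nat.prime_dvd_prime_iff_eq hp' Nat.prime_two).mp (hp'.dvd_of_dvd_pow h1)
  rwa [this] at hp

/-- The centre of `SL₂` in characteristic 2 is trivial. -/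
theorem center_sl2_even {F : Type*} [Field F] [CharP F 2] :
    Subgroup.center (Matrix.SpecialLinearGroup (Fin 2) F) = ⊥ := by
  rw [Subgroup.eq_bot_iff_forall]
  intro g hg
  rw [Subgroup.mem_center_iff] at hg
  obtain ⟨b, rfl⟩ := SL2Even.commute_up_iff.1
    (show Commute g (SL2Even.up 1) from (hg (SL2Even.up 1)).symm)
  have h1 := congrArg (fun g : Matrix.SpecialLinearGroup (Fin 2) F => g.1 0 0) (hg (SL2Even.lo 1))
  simp only [SL2Even.mul_ent, (SL2Even.up_ent b).1, (SL2Even.up_ent b).2.1,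
    (SL2Even.up_ent b).2.2.1, (SL2Even.up_ent b).2.2.2, (SL2Even.lo_ent (1 : F)).1,
    (SL2Even.lo_ent (1 : F)).2.1, (SL2Even.lo_ent (1 : F)).2.2.1,
    (SL2Even.lo_ent (1 : F)).2.2.2] at h1
  have hb : b = 0 := by linear_combination -h1
  subst hb
  rw [SL2Even.ext_iff', SL2Even.one_ent.1, SL2Even.one_ent.2.1, SL2Even.one_ent.2.2.1,
    SL2Even.one_ent.2.2.2]
  exact SL2Even.up_ent 0

/-- the two groups have the property together -/
theorem selfNorm_psl_iff {F : Type*} [Field F] [CharP F 2] :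
    SelfNorm (Matrix.ProjectiveSpecialLinearGroup (Fin 2) F) ↔
      SelfNorm (Matrix.SpecialLinearGroup (Fin 2) F) := by
  have hinj : Function.Injective (QuotientGroup.mk'
      (Subgroup.center (Matrix.SpecialLinearGroup (Fin 2) F))) := by
    rw [← MonoidHom.ker_eq_bot_iff, QuotientGroup.ker_mk', center_sl2_even]
  exact ⟨fun h => h.of_injective _ hinj, fun h => h.of_surjective _ (QuotientGroup.mk'_surjective _)⟩

/-- the theorem, given Bender's theorem and the odd order theorem for `G` -/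
theorem iff_psl {G : Type*} [Group G] [Finite G] [IsSimpleGroup G]
    (hna : ¬ IsMulCommutative G) (hodd : Odd (Nat.card G) → Group.IsSolvable G)
    (hB : ∀ H : Subgroup G, Cfsg.IsStronglyEmbedded H → BenderType.Classify.Concl G) :
    SelfNorm G ↔
    ∃ n : ℕ, 2 ≤ n ∧ (2 ^ n - 1).Prime ∧
      Nonempty (G ≃* Matrix.ProjectiveSpecialLinearGroup (Fin 2) (GaloisField 2 n)) := by
  haveI : Fact (Nat.Prime 2) := ⟨Nat.prime_two⟩
  have hna' : ∃ a b : G, a * b ≠ b * a := by
    by_contra hcon
    push Not at hcon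
    exact hna ⟨⟨hcon⟩⟩
  constructor
  · intro h
    obtain ⟨S⟩ : Nonempty (Sylow 2 G) := inferInstance
    have hSb : (S : Subgroup G) ≠ ⊥ := by
      intro hc
      apply not_solvable_of_simple hna'
      apply hodd
      by_contra hev
      rw [Nat.not_odd_iff_even, even_iff_two_dvd] at hev
      have h2 := S.dvd_card_of_dvd_card hev
      rw [hc, Subgroup.card_bot] at h2
      omega
    have hC := hB _ (h.stronglyEmbedded hna' S hSb)
    obtain ⟨F, i1, i2, ⟨n, hn, hF⟩, ⟨e⟩⟩ := psl_of_concl hC S (h.sylow_comm hna' S)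
    haveI := charP_two hF
    have h4 : 4 ≤ Nat.card F := by
      rw [Nat.card_eq_fintype_card, hF]
      calc 4 = 2 ^ 2 := by norm_num
        _ ≤ 2 ^ n := Nat.pow_le_pow_right (by norm_num) hn
    have hSL : SelfNorm (Matrix.SpecialLinearGroup (Fin 2) F) :=
      selfNorm_psl_iff.1 (h.of_injective e.symm.toMonoidHom e.symm.injective)
    have hp := prime_of_selfNorm h4 hSL
    rw [Nat.card_eq_fintype_card, hF] at hp
    refine ⟨n, hn, hp, ?_⟩
    have hn0 : n ≠ 0 := by omega
    haveI : Fintype (GaloisField 2 n) := Fintype.ofFinite _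
    have hcard : Fintype.card F = Fintype.card (GaloisField 2 n) := by
      rw [hF, ← Nat.card_eq_fintype_card, GaloisField.card 2 n hn0]
    exact ⟨e.trans (LieClassical.FieldTransfer.pslCongr (FiniteField.ringEquivOfCardEq hcard))⟩
  · rintro ⟨n, hn, hp, ⟨e⟩⟩
    have hn0 : n ≠ 0 := by omega
    have hc : Nat.card (GaloisField 2 n) = 2 ^ n := GaloisField.card 2 n hn0
    have h4 : 4 ≤ Nat.card (GaloisField 2 n) := by
      rw [hc]
      calc 4 = 2 ^ 2 := by norm_num
        _ ≤ 2 ^ n := Nat.pow_le_pow_right (by norm_num) hn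
    have hSL : SelfNorm (Matrix.SpecialLinearGroup (Fin 2) (GaloisField 2 n)) := by
      apply SL2Even.selfNorm h4
      rw [hc]
      exact hp
    exact (selfNorm_psl_iff.2 hSL).of_injective e.toMonoidHom e.injective

end Cfsg.Agent.H511

private theorem dce_6c124a362efb : _root_.True := by
  try have : _root_.True := by simp only [_root_.Cfsg.Agent.H511.dg.eq_1]
  exact _root_.True.intro
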