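import Mathlib
import Cfsg.Prelude.Def_Transfer
import Cfsg.Agent.OddCyclic.T1Defs
import Cfsg.Agent.SignalizersComponents.ComponentExists
import Cfsg.Agent.OddOrderLocal.CyclicSub
import Cfsg.Agent.FastGrp
import Cfsg.Agent.Prune
set_option linter.all false
prune_inst 0x7f00000000000000000000000000000000000000000000000000000000000000000000000000000000000000000000000000000000000000000000000000000000000000000000000000000000000000003fffffffffffffffffffffffffffbeffbdffffffff
open scoped Cfsg.Agent.FastGrp

/-!
# Finite groups whose odd Sylow subgroups are cyclic and whose Sylow 2-subgroups have a cyclic subgroup of index `≤ 2`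

Closure properties of the class (`PP`), and the first structural facts.
-/

set_option autoImplicit false
set_option linter.style.haveILetI false

namespace Cfsg.Agent.H511.AC

open Subgroup
open Cfsg.Agent.OddCyclic.T1Defs (OddCyc)

universe u

/-- a cyclic subgroup of index at most 2 -/
def TwoCyc (Q : Type*) [Group Q] : Prop := ∃ C : Subgroup Q, IsCyclic C ∧ C.index ∣ 2

theorem normal_of_index_dvd_two {Q : Type*} [Group Q] {C : Subgroup Q} (h : C.index ∣ 2) : C.Normal := by
  rcases (Nat.dvd_prime Nat.prime_two).1 h with h | h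
  · rw [index_eq_one] at h
    rw [h]
    infer_instance
  · exact normal_of_index_eq_two h

theorem TwoCyc.of_injective {Q R : Type*} [Group Q] [Group R] (h : TwoCyc Q) (f : R →* Q)
    (hf : Function.Injective f) : TwoCyc R := by
  obtain ⟨C, hC, hi⟩ := h
  have hn := normal_of_index_dvd_two hi
  refine ⟨C.comap f, ?_, ?_⟩
  · refine isCyclic_of_injective (f.subgroupComap C) ?_
    intro a b hab
    exact Subtype.ext (hf (congrArg Subtype.val hab))
  · rw [index_comap]
    exact (relIndex_dvd_index_of_normal C f.range).trans hi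

theorem TwoCyc.of_surjective {Q R : Type*} [Group Q] [Group R] (h : TwoCyc Q) (f : Q →* R)
    (hf : Function.Surjective f) : TwoCyc R := by
  obtain ⟨C, hC, hi⟩ := h
  refine ⟨C.map f, ?_, ?_⟩
  · exact isCyclic_of_surjective (f.subgroupMap C) (f.subgroupMap_surjective C)
  · exact (index_map_dvd C hf).trans hi

/-- odd Sylow subgroups cyclic, Sylow 2-subgroups with a cyclic subgroup of index at most 2 -/
structure PP (G : Type*) [Group G] : Prop where
  odd : OddCyc G
  two : ∀ S : Sylow 2 G, TwoCyc S

theorem oddCyc_of_injective {G H : Type*} [Group G] [Group H] (h : OddCyc G) (f : H →* G)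
    (hf : Function.Injective f) : OddCyc H := by
  intro p P hp hp2
  have h1 : IsPGroup p ((P : Subgroup H).map f) := P.2.map f
  obtain ⟨Q, hQ⟩ := h1.exists_le_sylow
  have := h p Q hp hp2
  refine isCyclic_of_injective ((inclusion hQ).comp (f.subgroupMap P)) ?_
  intro a b hab
  have h2 := congrArg (fun x : (Q : Subgroup G) => (x : G)) hab
  exact Subtype.ext (hf h2)

theorem oddCyc_of_surjective {G H : Type*} [Group G] [Group H] [Finite G] (h : OddCyc G) (f : G →* H)
    (hf : Function.Surjective f) : OddCyc H := by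
  intro p P hp hp2
  have : Fact p.Prime := ⟨hp⟩
  obtain ⟨Q, rfl⟩ := Sylow.mapSurjective_surjective hf p P
  have := h p Q hp hp2
  exact isCyclic_of_surjective (f.subgroupMap (Q : Subgroup G)) (f.subgroupMap_surjective _)

theorem PP.of_injective {G H : Type*} [Group G] [Group H] (h : PP G) (f : H →* G)
    (hf : Function.Injective f) : PP H := by
  refine ⟨oddCyc_of_injective h.odd f hf, ?_⟩
  intro P
  have h1 : IsPGroup 2 ((P : Subgroup H).map f) := P.2.map f
  obtain ⟨Q, hQ⟩ := h1.exists_le_sylow
  refine (h.two Q).of_injective ((inclusion hQ).comp (f.subgroupMap P)) ?_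
  intro a b hab
  have h2 := congrArg (fun x : (Q : Subgroup G) => (x : G)) hab
  exact Subtype.ext (hf h2)

theorem PP.of_surjective {G H : Type*} [Group G] [Group H] [Finite G] (h : PP G) (f : G →* H)
    (hf : Function.Surjective f) : PP H := by
  refine ⟨oddCyc_of_surjective h.odd f hf, ?_⟩
  intro P
  obtain ⟨Q, rfl⟩ := Sylow.mapSurjective_surjective hf 2 P
  exact (h.two Q).of_surjective (f.subgroupMap (Q : Subgroup G)) (f.subgroupMap_surjective _)

theorem PP.subgroup {G : Type*} [Group G] (h : PP G) (H : Subgroup G) : PP H :=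
  h.of_injective H.subtype H.subtype_injective

theorem PP.quotient {G : Type*} [Group G] [Finite G] (h : PP G) (N : Subgroup G) [N.Normal] : PP (G ⧸ N) :=
  h.of_surjective (QuotientGroup.mk' N) (QuotientGroup.mk'_surjective N)

theorem PP.congr {G H : Type*} [Group G] [Group H] (h : PP G) (e : G ≃* H) : PP H :=
  h.of_injective e.symm.toMonoidHom e.symm.injective

/-- In a group with cyclic odd Sylow subgroups, two commuting elements of the same odd prime order generate the same
subgroup. -/
theorem mem_zpowers_of_commute {G : Type*} [Group G] [Finite G] (h : OddCyc G) {r : ℕ} (hr : r.Prime) (hr2 : r ≠ 2)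
    {a b : G} (ha : orderOf a = r) (hb : orderOf b = r) (hab : a * b = b * a) : b ∈ zpowers a := by
  have : Fact r.Prime := ⟨hr⟩
  have h1 : IsPGroup r (zpowers a) := IsPGroup.of_card (n := 1) (by rw [Nat.card_zpowers, ha, pow_one])
  have h2 : IsPGroup r (zpowers b) := IsPGroup.of_card (n := 1) (by rw [Nat.card_zpowers, hb, pow_one])
  have h3 : IsPGroup r (zpowers a ⊔ zpowers b : Subgroup G) := by
    apply h1.to_sup_of_normal_right' h2
    rw [zpowers_le, mem_normalizer_iff]
    intro x
    constructor
    · rintro ⟨k, rfl⟩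
      refine ⟨k, ?_⟩
      have h4 : Commute a (b ^ k) := (show Commute a b from hab).zpow_right k
      show b ^ k = a * b ^ k * a⁻¹
      rw [h4.eq, mul_inv_cancel_right]
    · rintro ⟨k, hk⟩
      refine ⟨k, ?_⟩
      have h4 : Commute a (b ^ k) := (show Commute a b from hab).zpow_right k
      have h5 : b ^ k = a * x * a⁻¹ := hk
      have h6 : x = a⁻¹ * b ^ k * a := by rw [h5]; group
      show b ^ k = x
      rw [h6, mul_assoc, ← h4.eq, inv_mul_cancel_left]
  obtain ⟨P, hP⟩ := h3.exists_le_sylow
  have hcyc := h r P hr hr2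
  have haP : a ∈ (P : Subgroup G) := hP (mem_sup_left (mem_zpowers a))
  have hbP : b ∈ (P : Subgroup G) := hP (mem_sup_right (mem_zpowers b))
  have hA : Nat.card (zpowers (⟨a, haP⟩ : (P : Subgroup G))) = r := by
    rw [Nat.card_zpowers, Subgroup.orderOf_mk, ha]
  have hB : Nat.card (zpowers (⟨b, hbP⟩ : (P : Subgroup G))) = r := by
    rw [Nat.card_zpowers, Subgroup.orderOf_mk, hb]
  have heq : zpowers (⟨a, haP⟩ : (P : Subgroup G)) = zpowers ⟨b, hbP⟩ :=
    Cfsg.Agent.OddOrderLocal.CyclicSub.eq_of_card_eq_of_isCyclic (hA.trans hB.symm)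
  have h7 : (⟨b, hbP⟩ : (P : Subgroup G)) ∈ zpowers (⟨a, haP⟩ : (P : Subgroup G)) := by
    rw [heq]; exact mem_zpowers _
  obtain ⟨k, hk⟩ := h7
  exact ⟨k, congrArg Subtype.val hk⟩

theorem no_common {G : Type*} [Group G] [Finite G] (h : OddCyc G) {r : ℕ} (hr : r.Prime) (hr2 : r ≠ 2)
    {A B : Subgroup G} (hAB : A ⊓ B = ⊥) (hc : ∀ a ∈ A, ∀ b ∈ B, a * b = b * a) (hA : r ∣ Nat.card A)
    (hB : r ∣ Nat.card B) : False := by
  have : Fact r.Prime := ⟨hr⟩
  obtain ⟨a, ha⟩ := exists_prime_orderOf_dvd_card' r hA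
  obtain ⟨b, hb⟩ := exists_prime_orderOf_dvd_card' r hB
  have ha' : orderOf (a : G) = r := by rw [Subgroup.orderOf_coe, ha]
  have hb' : orderOf (b : G) = r := by rw [Subgroup.orderOf_coe, hb]
  have h1 := mem_zpowers_of_commute h hr hr2 ha' hb' (hc a a.2 b b.2)
  have h2 : (b : G) ∈ A ⊓ B := ⟨(zpowers_le.2 a.2) h1, b.2⟩
  rw [hAB, mem_bot] at h2
  rw [h2, orderOf_one] at hb'
  exact hr.one_lt.ne hb'

/-- Comparability of subgroups of a cyclic group of prime power order. -/
theorem le_or_le_of_cyclic {G : Type*} [Group G] [Finite G] {p : ℕ} [Fact p.Prime] {Z A B : Subgroup G}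
    (hZ : IsCyclic Z) (hA : A ≤ Z) (hB : B ≤ Z) (hpA : IsPGroup p A) (hpB : IsPGroup p B) : A ≤ B ∨ B ≤ A := by
  have key : ∀ A B : Subgroup G, A ≤ Z → B ≤ Z → Nat.card A ∣ Nat.card B → A ≤ B := by
    intro A B hA hB hd x hx
    have h1 : (⟨x, hA hx⟩ : Z) ∈ B.subgroupOf Z := by
      rw [Cfsg.Agent.OddOrderLocal.CyclicSub.mem_iff_pow_card, 
        Nat.card_congr (Subgroup.subgroupOfEquivOfLe hB).toEquiv]
      obtain ⟨k, hk⟩ := hd
      have h2 := Cfsg.Agent.OddOrderLocal.CyclicSub.pow_card_eq_one_of_mem hx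
      refine Subtype.ext ?_
      show x ^ Nat.card B = 1
      rw [hk, pow_mul, h2, one_pow]
    exact h1
  obtain ⟨a, ha⟩ := hpA.exists_card_eq
  obtain ⟨b, hb⟩ := hpB.exists_card_eq
  rcases le_total a b with h | h
  · exact Or.inl (key A B hA hB (by rw [ha, hb]; exact pow_dvd_pow _ h))
  · exact Or.inr (key B A hB hA (by rw [ha, hb]; exact pow_dvd_pow _ h))

/-! ### Order divisible by 3 -/

/-- Cyclic Sylow 2-subgroups: normal 2-complement. -/
theorem hasNormalPComplement_of_cyclic {G : Type*} [Group G] [Finite G] (P : Sylow 2 G) (hP : IsCyclic P) :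
    Cfsg.HasNormalPComplement 2 G := by
  by_cases h2 : 2 ∣ Nat.card G
  · have hmin : (Nat.card G).minFac = 2 := by
      rw [Nat.minFac_eq_two_iff]; exact h2
    have h1 := IsCyclic.normalizer_le_centralizer hmin hP
    refine ⟨P, (MonoidHom.transferSylow P h1).ker, inferInstance, ?_⟩
    exact MonoidHom.ker_transferSylow_isComplement' P h1
  · have h3 : Nat.card P = 1 := by
      obtain ⟨n, hn⟩ := P.2.exists_card_eq
      rcases Nat.eq_zero_or_pos n with h | h
      · rw [hn, h, pow_zero]
      · exfalso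
        apply h2
        have h4 : 2 ∣ Nat.card P := by rw [hn]; exact dvd_pow_self 2 h.ne'
        exact h4.trans (card_subgroup_dvd_card _)
    have h4 : (P : Subgroup G) = ⊥ := by
      rw [← card_eq_one]; exact h3
    refine ⟨P, ⊤, inferInstance, ?_⟩
    rw [h4]
    exact isComplement'_top_bot

/-- In the class `PP`, groups of order prime to 3 are solvable (given the odd order theorem and the normal
2-complement theorem). -/
theorem isSolvable_of_not_three {G : Type u} [Group G] [Finite G] (h : PP G)
    (hOO : ∀ (H : Type u) [Group H] [Finite H], Odd (Nat.card H) → Group.IsSolvable H)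
    (hNC : ∀ (P : Sylow 2 G) (C : Subgroup P), IsCyclic C → C.index = 2 → ¬ 3 ∣ Nat.card G →
      Cfsg.HasNormalPComplement 2 G)
    (h3 : ¬ 3 ∣ Nat.card G) : Group.IsSolvable G := by
  have hc : Cfsg.HasNormalPComplement 2 G := by
    have P : Sylow 2 G := default
    obtain ⟨C, hC, hi⟩ := h.two P
    rcases (Nat.dvd_prime Nat.prime_two).1 hi with h1 | h1
    · rw [index_eq_one] at h1
      subst h1
      exact hasNormalPComplement_of_cyclic P (isCyclic_of_surjective topEquiv.toMonoidHom topEquiv.surjective)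
    · exact hNC P C hC h1 h3
  obtain ⟨P, N, hN, hc⟩ := hc
  have h1 : Odd (Nat.card N) := by
    have h2 := hc.index_eq_card
    have h3 := P.not_dvd_index
    rw [h2] at h3
    rwa [Nat.odd_iff, ← Nat.two_dvd_ne_zero]
  have h2 : Group.IsSolvable N := hOO N h1
  have h3 : Group.IsSolvable (G ⧸ N) := by
    have h4 : IsPGroup 2 (G ⧸ N) := by
      obtain ⟨n, hn⟩ := P.2.exists_card_eq
      apply IsPGroup.of_card (n := n)
      rw [← hn, ← index_eq_card]
      exact hc.symm.index_eq_card
    have := h4.isNilpotent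
    infer_instance
  exact (Group.isSolvable_iff_subgroup_quotient N).2 ⟨h2, h3⟩

end Cfsg.Agent.H511.AC
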